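import Groth.Agent.Lib.GeomConn25.Transport
import Groth.Agent.Lib.EtaleRes4.Ext
import Groth.Agent.Lib.FinCondH13.Points
import Groth.Agent.S10469

/-!
# Fibres of algebraic spaces as spaces over a field
-/

universe u

set_option backward.isDefEq.respectTransparency.types false
set_option autoImplicit false
set_option maxHeartbeats 800000

open CategoryTheory CategoryTheory.Limits AlgebraicGeometry AlgSp Opposite
open Groth.Agent.AlgSpace Groth.Agent.AlgSpDecent

noncomputable section

namespace Groth.Agent.GeomConn25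

variable {S : Scheme.{u}}

open OverBC14 in
/-- The fibre over a field point is an algebraic space over that field. -/
theorem exists_fibre_space {X Y : Space S} (f : X.obj ⟶ Y.obj) {K : Type u} [Field K]
    (σ : Spec (CommRingCat.of K) ⟶ S) (y : (yon S).obj (Over.mk σ) ⟶ Y.obj) :
    ∃ F : Space (Spec (CommRingCat.of K)), ∀ (M : Type u) [Field M] [Algebra K M]
      (w : Spec (CommRingCat.of M) ⟶ S) (ψ : Over.mk w ⟶ Over.mk σ),
      ψ.left = Spec.map (CommRingCat.ofHom (algebraMap K M)) →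
      ∀ (P : Sp S) (a : P ⟶ X.obj) (b : P ⟶ (yon S).obj (Over.mk w)), IsPullback a b f ((yon S).map ψ ≫ y) →
        (ConnectedSpace (Points P) ↔ ConnectedSpace (Points (GeomRed15.bcSp F.obj M))) := by
  have hXk : IsAlgSpace (pullback f y) :=
    isAlgSpace_baseChange X.property Y.property (IsAlgSpace.yon_obj _) (IsPullback.of_hasPullback f y)
  obtain ⟨F, e, he⟩ := exists_L_iso σ (pullback.snd f y)
  have hF : IsAlgSpace F :=
    (isAlgSpace_L_iff σ F).1 ((ObjectProperty.prop_iff_of_iso (IsAlgSpace (S := S)) e).2 hXk)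
  refine ⟨⟨F, hF⟩, fun M _ _ w ψ hψ P a b sq => ?_⟩
  obtain rfl : Spec.map (CommRingCat.ofHom (algebraMap K M)) ≫ σ = w :=
    (congrArg (· ≫ σ) hψ).symm.trans (Over.w ψ)
  obtain ⟨z, φ, sqF, hφ⟩ := GeomRed15.exists_isPullback_fst (F := F) M
  let one : Over (Spec (CommRingCat.of K)) := Over.mk (𝟙 _)
  let i : (Over.map σ).obj one ≅ Over.mk σ := Over.isoMk (Iso.refl _)
    (show 𝟙 _ ≫ σ = 𝟙 _ ≫ σ from rfl)
  let α := θ σ one ≪≫ (yon S).mapIso i
  let β : (L σ).obj ((yon _).obj (GeomRed15.TK K M)) ≅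
      (yon S).obj (Over.mk (Spec.map (CommRingCat.ofHom (algebraMap K M)) ≫ σ)) := θ σ (GeomRed15.TK K M)
  have hz : e.hom ≫ pullback.snd f y = (OverBC14.L σ).map z ≫ α.hom := by
    rw [he, ← L_map_π σ z, ← θ_π]
    simp only [α, Iso.trans_hom, Functor.mapIso_hom]
    congr 3
  have hb : (OverBC14.L σ).map ((yon _).map φ) ≫ α.hom = β.hom ≫ (yon S).map ψ := by
    simp only [α, Iso.trans_hom, Functor.mapIso_hom]
    rw [reassoc_of% θ_natural σ φ, ← Functor.map_comp]
    refine congrArg (fun k => β.hom ≫ (yon S).map k) (Over.OverMorphism.ext ?_)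
    change φ.left ≫ 𝟙 _ = ψ.left
    rw [Category.comp_id, hφ, hψ]
  have sqL := (isPullback_map σ sqF).of_iso (Iso.refl _) e β α
    (fst' := (OverBC14.L σ).map prod.fst ≫ e.hom) (snd' := (OverBC14.L σ).map prod.snd ≫ β.hom)
    (f' := pullback.snd f y) (g' := (yon S).map ψ) (by simp) (by simp) hz.symm hb
  have big := sqL.paste_horiz (IsPullback.of_hasPullback f y)
  let i₀ := sq.isoIsPullback _ _ big
  constructor
  · intro _
    exact (connectedSpace_L_iff σ).1 (connectedSpace_of_iso i₀)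
  · intro h
    have := (connectedSpace_L_iff σ).2 h
    exact connectedSpace_of_iso i₀.symm

theorem exists_factor_residueField' {V : Scheme.{u}} {Ω : Type u} [Field Ω] (c : Spec (CommRingCat.of Ω) ⟶ V)
    (v : ↥V) (hv : c (IsLocalRing.closedPoint Ω) = v) :
    ∃ r : Spec (CommRingCat.of Ω) ⟶ Spec (V.residueField v), r ≫ V.fromSpecResidueField v = c := by
  subst hv
  exact ⟨Spec.map (V.descResidueField (Scheme.stalkClosedPointTo c)),
    Scheme.descResidueField_stalkClosedPointTo_fromSpecResidueField Ω V c⟩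

/-- A field point of a scheme factors through the residue field. -/
theorem exists_factor_residueField {V : Over S} {Ω : Type u} [Field Ω] {w : Spec (CommRingCat.of Ω) ⟶ S}
    (c : Over.mk w ⟶ V) (v : ↥V.left) (hv : c.left (IsLocalRing.closedPoint Ω) = v) :
    ∃ r : Over.mk w ⟶ Over.mk (V.left.fromSpecResidueField v ≫ V.hom),
      r ≫ Over.homMk (V.left.fromSpecResidueField v) rfl = c := by
  obtain ⟨r, hr⟩ := exists_factor_residueField' (show Spec (CommRingCat.of Ω) ⟶ V.left from c.left) v hv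
  exact ⟨Over.homMk r ((Category.assoc _ _ _).symm.trans ((congrArg (· ≫ V.hom) hr).trans (Over.w c))),
    Over.OverMorphism.ext hr⟩

/-- A geometric point lifts to an affine chart. -/
theorem exists_affine_lift {Y : Space S} (yb : FieldPt Y.obj) [IsAlgClosed yb.K] :
    ∃ (A : Type u) (_ : CommRing A) (s : Spec (CommRingCat.of A) ⟶ S)
      (a : (yon S).obj (Over.mk s) ⟶ Y.obj) (φ : A →+* yb.K)
      (c : yb.pt ⟶ Over.mk s), RepWith @Etale a ∧ c.left = Spec.map (CommRingCat.ofHom φ) ∧
        (yon S).map c ≫ a = yb.toHom := by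
  obtain ⟨U₀, p₀, hpe, hps⟩ := Y.property.atlas
  have sq := hpe.1.isPullback yb.toHom
  let P := hpe.1.pullback yb.toHom
  let π : P ⟶ yb.pt := hpe.1.snd yb.toHom
  have : Etale π.left := hpe.2 _ _ _ sq
  have : Surjective π.left := hps.2 _ _ _ sq
  let π' : P.left ⟶ Spec (CommRingCat.of yb.K) := π.left
  have : LocallyOfFiniteType π' := inferInstanceAs (LocallyOfFiniteType π.left)
  obtain ⟨t, -⟩ := π.left.surjective (IsLocalRing.closedPoint yb.K)
  have : Nonempty P.left := ⟨t⟩
  obtain ⟨s₀, hs₀⟩ := FinCondH13.exists_section π'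
  let l : yb.pt ⟶ P := Over.homMk s₀ (by
    rw [← Over.w π]
    exact (Category.assoc _ _ _).symm.trans ((congrArg (· ≫ yb.str) hs₀).trans (Category.id_comp _)))
  obtain ⟨d, hd⟩ := (yon S).map_surjective (hpe.1.fst yb.toHom)
  let c₀ : yb.pt ⟶ U₀ := l ≫ d
  have hc₀ : (yon S).map c₀ ≫ p₀ = yb.toHom := by
    rw [Functor.map_comp, Category.assoc, hd, sq.w, ← Functor.map_comp_assoc,
      show l ≫ hpe.1.snd yb.toHom = 𝟙 _ from Over.OverMorphism.ext hs₀, CategoryTheory.Functor.map_id,
      Category.id_comp]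
  obtain ⟨W, hW, hmem, -⟩ := exists_isAffineOpen_mem_and_subset (X := U₀.left)
    (x := c₀.left (IsLocalRing.closedPoint yb.K)) (U := ⊤) trivial
  have hrange : Set.range c₀.left ⊆ Set.range hW.fromSpec := by
    rw [hW.range_fromSpec]
    rintro _ ⟨z, rfl⟩
    rw [show z = IsLocalRing.closedPoint yb.K from Subsingleton.elim (α := PrimeSpectrum yb.K) _ _]
    exact hmem
  let cW : Spec (CommRingCat.of yb.K) ⟶ Spec Γ(U₀.left, W) := IsOpenImmersion.lift hW.fromSpec c₀.left hrange
  let j : Over.mk (hW.fromSpec ≫ U₀.hom) ⟶ U₀ := Over.homMk hW.fromSpec rfl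
  refine ⟨Γ(U₀.left, W), inferInstance, hW.fromSpec ≫ U₀.hom, (yon S).map j ≫ p₀, (Spec.preimage cW).hom,
    Over.homMk cW ((IsOpenImmersion.lift_fac_assoc _ _ _ _).trans (Over.w c₀)),
    repWith_comp ((repWith_yon_map_iff _ _).2 (show Etale hW.fromSpec from inferInstance)) hpe,
    (Spec.map_preimage cW).symm, ?_⟩
  rw [← Functor.map_comp_assoc, ← hc₀]
  exact congrArg (fun k => (yon S).map k ≫ p₀) (Over.OverMorphism.ext (IsOpenImmersion.lift_fac _ _ _))

end Groth.Agent.GeomConn25
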