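import Groth.Agent.Lib.OverBC14.Apps
import Groth.Agent.Lib.GeomRed15.Conn
import Groth.Prelude.Def_AlgSpDec

/-!
# Points of the extension of a sheaf along a morphism of base schemes
-/

universe u

set_option backward.isDefEq.respectTransparency.types false

open CategoryTheory CategoryTheory.Limits AlgebraicGeometry AlgSp Opposite
open Groth.Agent.AlgSpDecent

noncomputable section

namespace Groth.Agent.GeomConn25

open OverBC14

variable {S S' : Scheme.{u}} (g : S ⟶ S') {F G : Sp S}

/-- A field-valued point as a point of the extension. -/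
def ptL (p : FieldPt F) : FieldPt ((L g).obj F) :=
  ⟨p.K, p.str ≫ g, (⟨⟨p.str, rfl⟩, p.val⟩ : LObj g F (Over.mk (p.str ≫ g)))⟩

/-- A field-valued point of the extension as a point of the sheaf. -/
def ptUn (q : FieldPt ((L g).obj F)) : FieldPt F :=
  ⟨q.K, (show LObj g F (Over.mk q.str) from q.val).1.1, (show LObj g F (Over.mk q.str) from q.val).2⟩

theorem rel_ptL {p q : FieldPt F} (h : FieldPt.Rel p q) : FieldPt.Rel (ptL g p) (ptL g q) := by
  obtain ⟨Ω, _, w, a, b, h⟩ := h
  refine ⟨Ω, inferInstance, w ≫ g, (Over.map g).map a, (Over.map g).map b, ?_⟩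
  change LObj.map ((Over.map g).map a) _ = LObj.map ((Over.map g).map b) _
  refine LObj.ext ((Over.w a).trans (Over.w b).symm) ?_
  change F.obj.map _ (F.obj.map _ q.val) = F.obj.map _ p.val
  have hb : b.left ≫ q.str = w := Over.w b
  have ha : a.left ≫ p.str = w := Over.w a
  let e : Over.mk (a.left ≫ p.str) ⟶ Over.mk w := Over.homMk (𝟙 _) ((Category.id_comp _).trans ha.symm)
  let b' : Over.mk (b.left ≫ q.str) ⟶ Over.mk q.str := Over.homMk b.left rfl
  let a' : Over.mk (a.left ≫ p.str) ⟶ Over.mk p.str := Over.homMk a.left rfl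
  let e' : Over.mk (a.left ≫ p.str) ⟶ Over.mk (b.left ≫ q.str) :=
    Over.homMk (𝟙 _) ((Category.id_comp _).trans (hb.trans ha.symm))
  change F.obj.map e'.op (F.obj.map b'.op q.val) = F.obj.map a'.op p.val
  refine (map_map_eq (F := F) e' b' (e ≫ b) rfl q.val).trans ?_
  rw [← map_map_eq (F := F) e b (e ≫ b) rfl q.val, ← h]
  exact map_map_eq e a a' (Category.id_comp _) p.val

theorem rel_ptUn {p q : FieldPt ((L g).obj F)} (h : FieldPt.Rel p q) :
    FieldPt.Rel (ptUn g p) (ptUn g q) := by
  obtain ⟨Ω, _, w, a, b, h⟩ := h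
  change LObj.map a _ = LObj.map b _ at h
  let x : LObj g F (Over.mk p.str) := p.val
  let y : LObj g F (Over.mk q.str) := q.val
  have h₁ : a.left ≫ x.1.1 = b.left ≫ y.1.1 := congrArg (fun z => z.1.1) h
  refine ⟨Ω, inferInstance, a.left ≫ x.1.1, Over.homMk a.left rfl, Over.homMk b.left h₁.symm, ?_⟩
  have := LObj.congr_snd h (𝟙 (Over.mk (a.left ≫ x.1.1))) (Over.homMk (𝟙 _) ((Category.id_comp _).trans h₁.symm)) rfl
  change F.obj.map _ (F.obj.map _ x.2) = F.obj.map _ (F.obj.map _ y.2) at this
  refine ((map_map_eq (F := F) (𝟙 (Over.mk (a.left ≫ x.1.1))) _ _ (Category.id_comp _) x.2).symm.trans this).trans ?_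
  exact map_map_eq _ _ _ (Category.id_comp _) y.2

/-- The map on points. -/
def toLPt : Points F → Points ((L g).obj F) := Quotient.map (ptL g) fun _ _ h => rel_ptL g h

/-- The inverse map on points. -/
def ofLPt : Points ((L g).obj F) → Points F := Quotient.map (ptUn g) fun _ _ h => rel_ptUn g h

theorem ofLPt_toLPt (x : Points F) : ofLPt g (toLPt g x) = x := by
  induction x using Points.ind
  rfl

theorem toLPt_ofPt {T : Over S} (a : (yon S).obj T ⟶ F) (t : ↥T.left) :
    toLPt g (Points.ofPt a t) = Points.ofPt (mapPt g a) t := by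
  refine Points.sound ⟨_, inferInstance, _, 𝟙 _, Over.homMk (𝟙 _) ?_, ?_⟩
  · exact (Category.id_comp _).trans (Category.assoc _ _ _).symm
  · refine LObj.ext ?_ ?_
    · change 𝟙 _ ≫ T.left.fromSpecResidueField t ≫ T.hom =
        𝟙 _ ≫ T.left.fromSpecResidueField t ≫ 𝟙 _ ≫ T.hom
      simp
    · let ha := (J S).uliftYonedaEquiv a
      change F.obj.map _ (F.obj.map _ _) = F.obj.map _ _
      exact map_map_eq _ _ _ (by simp) _

theorem exists_eq_ofPt (y : Points ((L g).obj F)) :
    ∃ (T : Over S) (a : (yon S).obj T ⟶ F) (t : ↥T.left), y = Points.ofPt (mapPt g a) t := by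
  induction y using Points.ind with
  | h q =>
    obtain ⟨T, e, a, hea⟩ := exists_pt g q.toHom
    refine ⟨T, a, e.hom.left (IsLocalRing.closedPoint q.K), ?_⟩
    rw [← Points.ofPt_toHom q (IsLocalRing.closedPoint q.K), ← hea, ofPt_map_comp]

theorem toLPt_ofLPt (y : Points ((L g).obj F)) : toLPt g (ofLPt g y) = y := by
  obtain ⟨T, a, t, rfl⟩ := exists_eq_ofPt g y
  rw [← toLPt_ofPt g a t, ofLPt_toLPt]

theorem continuous_toLPt : Continuous (toLPt g : Points F → Points ((L g).obj F)) :=
  continuous_def.2 fun W hW => Points.isOpen_iff.2 fun T a => by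
    rw [← Set.preimage_comp, show toLPt g ∘ Points.ofPt a = Points.ofPt (mapPt g a) from funext (toLPt_ofPt g a)]
    exact Points.isOpen_iff.1 hW _ _

theorem continuous_ofLPt : Continuous (ofLPt g : Points ((L g).obj F) → Points F) :=
  continuous_def.2 fun W hW => Points.isOpen_iff.2 fun T' a' => by
    obtain ⟨T, e, a, rfl⟩ := exists_pt g a'
    have : ofLPt g ∘ Points.ofPt ((yon S').map e.hom ≫ mapPt g a) = Points.ofPt a ∘ e.hom.left := by
      funext t
      rw [Function.comp_apply, Function.comp_apply, ofPt_map_comp, ← toLPt_ofPt g a, ofLPt_toLPt]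
    rw [← Set.preimage_comp, this, Set.preimage_comp]
    exact (Points.isOpen_iff.1 hW T a).preimage e.hom.left.continuous

/-- Connectedness does not depend on the base. -/
theorem connectedSpace_L_iff : ConnectedSpace (Points ((L g).obj F)) ↔ ConnectedSpace (Points F) :=
  ⟨fun _ => (Function.RightInverse.surjective (ofLPt_toLPt g) : Function.Surjective (ofLPt g)).connectedSpace
      (continuous_ofLPt g),
    fun _ => (Function.RightInverse.surjective (toLPt_ofLPt g) : Function.Surjective (toLPt g)).connectedSpace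
      (continuous_toLPt g)⟩

/-- Isomorphic sheaves have homeomorphic spaces of points. -/
theorem connectedSpace_of_iso {F G : Sp S} (e : F ≅ G) [ConnectedSpace (Points F)] : ConnectedSpace (Points G) :=
  (show Function.Surjective (Points.map e.hom) from fun x => ⟨Points.map e.inv x, by
    rw [← Points.map_comp, e.inv_hom_id, Points.map_id]⟩).connectedSpace (Points.continuous_map _)

end Groth.Agent.GeomConn25
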